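import Cfsg.Agent.H240.E8S.Frame
import Cfsg.Agent.H482.Ore.Block
import Cfsg.Agent.Nodes.ChevChart
import Cfsg.Agent.S1055

/-!
# S2464: two classes from a regular element of the split torus (helper240)

* `t6_of_torus` : `s ∈ T` with `ch q s ≠ 1` for all roots `q` and of order prime to `6`: every nonidentity element is a
  product of two conjugates of `s`;
* `t6_G2_split` : `G₂(q)`, `m ∣ q - 1`, `m` prime to `6`, `m > 5`.
-/

set_option autoImplicit false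
set_option linter.unusedSectionVars false

namespace Cfsg.Agent.H240.G2S

open CoxeterSystem Cfsg.Agent.ChevalleyStructure.CoxeterGeom Cfsg.Agent.Tits.Roots Cfsg.Agent.Tits.Core
  Cfsg.Agent.Nodes.Reps Cfsg.Agent.Nodes.BNOf Cfsg.Agent.Nodes.RGDLib Cfsg.Agent.Nodes.Bruhat
  Cfsg.Agent.Nodes.OppDec Cfsg.Agent.Nodes.LeviDec Cfsg.Agent.Nodes.KindChev Cfsg.Agent.Nodes.ChevCls
  Cfsg.Agent.OddHalf.NI.ModelChev Cfsg.Agent.Nodes.StabComb
  Cfsg.Agent.H162.GaussDec Cfsg.Agent.H162.GaussLevi Cfsg.Agent.H162.GaussSL Cfsg.Agent.H162.GaussReg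
  Cfsg.Agent.H162.GaussPQ
  Cfsg.Agent.H928.Ore.Frame Cfsg.Agent.H928.Ore.Fix
open Cfsg.Lie Cfsg.Agent.ChevalleyStructure Cfsg.Agent.ChevalleyStructure.Elts
  Cfsg.Agent.ChevalleyStructure.RootVec Cfsg.Agent.ChevalleyStructure.NPerm
  Cfsg.Agent.ChevalleyStructure.CoxeterGeomTypes Cfsg.Agent.Nodes.RGDChev Cfsg.Agent.KFacts.RgdChevCoord
open Cfsg.Agent.H122.Pw Cfsg.Agent.H777.T6 Cfsg.Agent.H240.E8S
open Cfsg.Agent.H482.Ore.Fix (Dz ch_mul)

universe u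

section

variable {D : ChevalleyDatum} {l : ℕ} {M : CoxeterMatrix (Fin l)} (hp : IsType D l M) {K : Type u} [Field K]

/-- the torus as a Levi subgroup -/
theorem pc_torus : Pc hp K (∅ : Set (Fin l)) (TT D K).subtype ⊥ ⊥ (fun _ => False) where
  mem x := T_le_LJ x.2
  up _ _ h := h.elim
  lo _ _ h := h.elim

/-- **A regular element of the split torus.** -/
theorem t6_of_torus [Finite K] (hl : 0 < l) (hS : IsSimpleGroup ↥(D.group K) ∧ ¬ IsMulCommutative ↥(D.group K))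
    (hM : ∀ J : Finset (Fin l), J = ∅ ∨ J = Finset.univ ∨ ∃ a ∈ J, ∃ b, b ∉ J ∧ M a b ≠ 2)
    (h0 : ∀ q < D.nroots, ∃ k, vec D l q k ≠ 0)
    {s : ↥(D.group K)} (hs : s ∈ TT D K) (hreg : ∀ q < D.nroots, ch hp (vec D l q) s ≠ 1)
    (ho : Nat.Coprime (orderOf s) 6) : T6 ↥(D.group K) := by
  obtain ⟨p, hpc⟩ := CharP.exists K
  have : Fact p.Prime := ⟨(CharP.char_is_prime_or_zero K p).resolve_right (CharP.char_ne_zero_of_finite K p)⟩
  have hnf := (Dz.torus (f := RingHom.id K) (J := (∅ : Set (Fin l))) hp hs).nf hp p fun q hq _ => hreg q hq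
  refine t6_of_pc (pc_torus hp) (fun q hq h => ?_) hl hS hM (k := ⟨s, hs⟩ * ⟨s, hs⟩) (x := ⟨s, hs⟩) (y := ⟨s, hs⟩)
    (by exact mul_mem hs hs) ?_ hnf hnf ho ho
  · obtain ⟨k, hk⟩ := h0 q hq
    exact hk (h k (Set.notMem_empty k))
  · rintro v hv u hu
    rw [Subgroup.mem_bot] at hv hu
    exact ⟨1, 1, by rw [hv, hu]; group⟩

end

/-- the order of a coroot element -/
theorem hc_pow_one {D : ChevalleyDatum} {l : ℕ} {M : CoxeterMatrix (Fin l)} (hp : IsType D l M) {K : Type u} [Field K]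
    (j : Fin l) {a : K} (ha : a ≠ 0) {m : ℕ} (h : a ^ m = 1) : hc hp j a ^ m = 1 := by
  have h1 : Cfsg.Agent.FixBN.FieldRGD.dd a ha ^ m = 1 := by
    apply Subtype.ext
    rw [Matrix.SpecialLinearGroup.coe_pow]
    have h2 : (Cfsg.Agent.FixBN.FieldRGD.dd a ha : Matrix (Fin 2) (Fin 2) K) = Matrix.diagonal ![a, a⁻¹] := by
      ext i j
      fin_cases i <;> fin_cases j <;> simp [Cfsg.Agent.FixBN.FieldRGD.dd]
    rw [h2, Matrix.diagonal_pow, Matrix.SpecialLinearGroup.coe_one, ← Matrix.diagonal_one]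
    congr 1
    funext i
    fin_cases i
    · exact h
    · change a⁻¹ ^ m = 1
      rw [inv_pow, h, inv_one]
  rw [← Cfsg.Agent.OddHalf.NI.ModelChev.sl_dd hp j a ha, ← map_pow, h1, map_one]

/-! ### `G₂(q)` -/

theorem tyG : IsType chevG2 2 CoxeterMatrix.G₂ := by simp [IsType, typeList]

theorem vecG : ∀ q < chevG2.nroots, ∃ k, vec chevG2 2 q k ≠ 0 := by decide +kernel

/-- the exponent of the character of the root `q` -/
def ex (q : ℕ) : ℤ := 3 * chevG2.cartan 0 q + 5 * chevG2.cartan 1 q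

theorem ex_tab : ∀ q < chevG2.nroots, ex q ≠ 0 ∧ -5 ≤ ex q ∧ ex q ≤ 5 := by decide +kernel

variable {K : Type u} [Field K] [Finite K]

/-- **`G₂(q)`, split torus.** -/
theorem t6_G2_of_simple (hS : IsSimpleGroup ↥(chevG2.group K) ∧ ¬ IsMulCommutative ↥(chevG2.group K)) {m : ℕ}
    (hm : m ∣ Nat.card K - 1) (h6 : m.Coprime 6) (h5 : 5 < m) : T6 ↥(chevG2.group K) := by
  -- an element of order `m` of the field
  obtain ⟨g, hg⟩ := IsCyclic.exists_ofOrder_eq_natCard (α := Kˣ)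
  have hcu : Nat.card Kˣ = Nat.card K - 1 := Nat.card_units K
  rw [hcu] at hg
  have hK : 1 < Nat.card K := Finite.one_lt_card
  obtain ⟨k, hk⟩ := hm
  have hk0 : k ≠ 0 := by
    rintro rfl
    omega
  obtain ⟨ζ, hζ⟩ : ∃ ζ : Kˣ, orderOf ζ = m := ⟨g ^ k, by
    rw [orderOf_pow_of_dvd hk0 (by rw [hg, hk]; exact dvd_mul_left _ _), hg, hk,
      Nat.mul_div_cancel _ (Nat.pos_of_ne_zero hk0)]⟩
  have hz : ∀ n : ℤ, ((ζ ^ n : Kˣ) : K) ^ m = 1 := fun n => by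
    have h7 : (ζ ^ n) ^ m = 1 := by rw [← zpow_natCast, ← zpow_mul, mul_comm, zpow_mul, zpow_natCast, ← hζ,
      pow_orderOf_eq_one, one_zpow]
    rw [← Units.val_pow_eq_pow_val, h7, Units.val_one]
  obtain ⟨s, hs⟩ : ∃ s, s = hc tyG 0 ((ζ ^ (3 : ℤ) : Kˣ) : K) * hc tyG 1 ((ζ ^ (5 : ℤ) : Kˣ) : K) := ⟨_, rfl⟩
  have h1 : hc tyG 0 ((ζ ^ (3 : ℤ) : Kˣ) : K) ∈ TT chevG2 K := hc_mem tyG 0 (Units.ne_zero _)
  have h2 : hc tyG 1 ((ζ ^ (5 : ℤ) : Kˣ) : K) ∈ TT chevG2 K := hc_mem tyG 1 (Units.ne_zero _)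
  have hsT : s ∈ TT chevG2 K := hs ▸ mul_mem h1 h2
  refine t6_of_torus tyG (by norm_num) hS Cfsg.Agent.Nodes.ChevChart.irrG vecG hsT (fun q hq => ?_) ?_
  · have e : ch tyG (vec chevG2 2 q) s = ((ζ ^ ex q : Kˣ) : K) := by
      rw [hs, ch_mul tyG hq h1 h2, ch_hc tyG 0 (Units.ne_zero _) hq, ch_hc tyG 1 (Units.ne_zero _) hq, ex]
      push_cast
      rw [← zpow_mul, ← zpow_mul, ← zpow_add₀ (Units.ne_zero ζ)]
      rfl
    rw [e]
    intro h7
    have h8 : ζ ^ ex q = 1 := Units.ext h7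
    rw [← orderOf_dvd_iff_zpow_eq_one, hζ] at h8
    obtain ⟨h9, h10, h11⟩ := ex_tab q hq
    have h12 := Int.le_of_dvd (b := |ex q|) (by positivity) ((dvd_abs _ _).2 h8)
    have h13 : |ex q| ≤ 5 := abs_le.2 ⟨h10, h11⟩
    omega
  · refine Nat.Coprime.coprime_dvd_left (orderOf_dvd_of_pow_eq_one ?_) h6
    have hcomm : Commute (hc tyG 0 ((ζ ^ (3 : ℤ) : Kˣ) : K)) (hc tyG 1 ((ζ ^ (5 : ℤ) : Kˣ) : K)) :=
      congrArg Subtype.val (Cfsg.Agent.OddHalf.NI.ModelChev.comm_TT tyG ⟨_, h1⟩ ⟨_, h2⟩)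
    rw [hs, hcomm.mul_pow, hc_pow_one tyG 0 (Units.ne_zero _) (hz 3), hc_pow_one tyG 1 (Units.ne_zero _) (hz 5), one_mul]

/-- **`G₂(q)`, `m ∣ q - 1`, `m` prime to `6`, `m > 5`.** -/
theorem t6_G2_split {m : ℕ} (hm : m ∣ Nat.card K - 1) (h6 : m.Coprime 6) (h5 : 5 < m) : T6 ↥(chevG2.group K) := by
  refine t6_G2_of_simple (Cfsg.Agent.S1055.result ?_) hm h6 h5
  classical
  have := Fintype.ofFinite K
  have h1 : 1 < Nat.card K := Finite.one_lt_card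
  have h2 := Nat.le_of_dvd (by omega) hm
  by_contra hcon
  push Not at hcon
  have h4 : Fintype.card K ≤ 2 := by
    have h5 : (Finset.univ : Finset K) ⊆ {0, 1} := fun a _ => by
      by_cases h6 : a = 0
      · simp [h6]
      · simp [hcon a h6]
    calc Fintype.card K = (Finset.univ : Finset K).card := rfl
      _ ≤ ({0, 1} : Finset K).card := Finset.card_le_card h5
      _ ≤ 2 := Finset.card_le_two
  rw [← Nat.card_eq_fintype_card] at h4
  omega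

/-- **`G₂(8)`.** -/
theorem t6_G2_eight (hK : Nat.card K = 8) : T6 ↥(chevG2.group K) :=
  t6_G2_split (m := 7) (by rw [hK]) (by norm_num) (by norm_num)

end Cfsg.Agent.H240.G2S
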